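import Groth.Agent.S2677
import Groth.Agent.LocCoh.KillLocal
import Groth.Agent.LocCoh.AdjDepthRestrict
import Mathlib.RingTheory.RegularLocalRing.Defs

/-!
# Rectified depth over a regular ring

`isOpen_rect`: if `height p + d p` is locally constant, `{p | n ≤ depth M_p + d p}` is open.
-/

set_option autoImplicit false

universe u

open CategoryTheory

namespace Groth.Agent.Fibres16.RectDepth

variable {B : Type u} [CommRing B] [IsRegularRing B]

theorem isOpen_rect (M : Type u) [AddCommGroup M] [Module B M] [Module.Finite B M]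
    (d : PrimeSpectrum B → ℕ)
    (hd : ∀ p : PrimeSpectrum B, ∃ (W : Set (PrimeSpectrum B)) (c : ℕ), IsOpen W ∧ p ∈ W ∧
      ∀ q ∈ W, q.asIdeal.height + (d q : ℕ∞) = (c : ℕ∞)) (n : ℕ∞) :
    IsOpen {p : PrimeSpectrum B | n ≤
      LocCoh.depth (Localization.AtPrime p.asIdeal) (LocalizedModule p.asIdeal.primeCompl M) + (d p : ℕ∞)} := by
  refine isOpen_iff_forall_mem_open.2 fun p hp => ?_
  obtain ⟨W, c, hW, hpW, hc⟩ := hd p
  have hdim : ∀ q ∈ W, q.asIdeal.height = ((c - d q : ℕ) : ℕ∞) ∧ d q ≤ c ∧
      ringKrullDim (Localization.AtPrime q.asIdeal) = ((c - d q : ℕ) : WithBot ℕ∞) := by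
    intro q hq
    have h1 := hc q hq
    obtain ⟨h, hh⟩ := ENat.ne_top_iff_exists.1 (show q.asIdeal.height ≠ ⊤ from fun ht => by simp [ht] at h1)
    rw [← hh, ← Nat.cast_add, Nat.cast_inj] at h1
    have h2 : q.asIdeal.height = ((c - d q : ℕ) : ℕ∞) := by rw [← hh, Nat.cast_inj]; omega
    refine ⟨h2, by omega, ?_⟩
    rw [IsLocalization.AtPrime.ringKrullDim_eq_height q.asIdeal, h2]
    rfl
  by_cases hn : n ≤ (c : ℕ∞)
  · obtain ⟨m, rfl⟩ := ENat.ne_top_iff_exists.1 (show n ≠ ⊤ from fun ht => by simp [ht] at hn)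
    rw [Nat.cast_le] at hn
    have key : ∀ q ∈ W, ((m : ℕ∞) ≤ LocCoh.depth (Localization.AtPrime q.asIdeal)
          (LocalizedModule q.asIdeal.primeCompl M) + (d q : ℕ∞)) ↔
        projectiveDimension (ModuleCat.of (Localization.AtPrime q.asIdeal)
          (LocalizedModule q.asIdeal.primeCompl M)) ≤ (c - m : ℕ) := by
      intro q hq
      obtain ⟨h1, h2, -⟩ := hdim q hq
      rw [projectiveDimension_le_iff, ← LocCoh.KillLocal.pd_le_iff_depth q.asIdeal M h1 (c - m)]
      generalize LocCoh.depth (Localization.AtPrime q.asIdeal) (LocalizedModule q.asIdeal.primeCompl M) = D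
      cases D with
      | top => simp
      | coe D => norm_cast; omega
    refine ⟨W ∩ {q | projectiveDimension (ModuleCat.of (Localization.AtPrime q.asIdeal)
          (LocalizedModule q.asIdeal.primeCompl M)) ≤ (c - m : ℕ)}, fun q hq => (key q hq.1).2 hq.2,
      hW.inter (Groth.Agent.S2677.result B M (c - m)), hpW, (key p hpW).1 hp⟩
  · have key : ∀ q ∈ W, (n ≤ LocCoh.depth (Localization.AtPrime q.asIdeal)
          (LocalizedModule q.asIdeal.primeCompl M) + (d q : ℕ∞)) ↔ q ∉ Module.support B M := by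
      intro q hq
      obtain ⟨h1, h2, h3⟩ := hdim q hq
      constructor
      · intro h hs
        haveI : Nontrivial (LocalizedModule q.asIdeal.primeCompl M) := hs
        refine hn (h.trans ((add_le_add (ABReg.depth_le h3 _) le_rfl).trans ?_))
        norm_cast
        omega
      · intro hs
        haveI : Subsingleton (LocalizedModule q.asIdeal.primeCompl M) :=
          Module.notMem_support_iff.1 hs
        simp only [LocCoh.depth]
        rw [Depth.idealDepth_eq_top_of_subsingleton]
        simp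
    exact ⟨W ∩ (Module.support B M)ᶜ, fun q hq => (key q hq.1).2 hq.2,
      hW.inter Module.isClosed_support.isOpen_compl, hpW, (key p hpW).1 hp⟩

end Groth.Agent.Fibres16.RectDepth
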