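import Groth.Agent.Fibres16.RectDepth.Scheme
import Groth.Agent.TopDimLib.Basic

/-!
# Biequidimensional schemes with domain stalks

`dim_add`: `dim O_x + dim cl{x} = dim X`.
-/

set_option autoImplicit false
set_option linter.style.haveILetI false

universe u

open CategoryTheory AlgebraicGeometry TopologicalSpace

namespace Groth.Agent.Fibres16.RectDepth

/-- The generizations of a point have the dimension of its local ring. -/
theorem topDim_generizations {X : Scheme.{u}} (x : X) :
    topologicalKrullDim ↥{t : X | t ⤳ x} = ringKrullDim (X.presheaf.stalk x) := by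
  have e := (X.fromSpecStalk x).isEmbedding.toHomeomorph.trans
    (Homeomorph.setCongr (Scheme.range_fromSpecStalk (X := X) (x := x)))
  rw [← IsHomeomorph.topologicalKrullDim_eq _ e.isHomeomorph]
  exact PrimeSpectrum.topologicalKrullDim_eq_ringKrullDim _

theorem dim_add (X : Scheme.{u}) (hdom : ∀ x : X, IsDomain (X.presheaf.stalk x))
    (hfin : topologicalKrullDim X < ⊤)
    (hcomp : ∀ C ∈ irreducibleComponents (X : Type u), topologicalKrullDim ↥C = topologicalKrullDim X)
    (hchain : ∀ (y : X) (T : Set X), IsClosed T → IsIrreducible T → y ∈ T →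
      topologicalKrullDim ↥T = topologicalKrullDim ↥(closure ({y} : Set X)) + topologicalKrullDim ↥{t : X | t ∈ T ∧ t ⤳ y})
    (x : X) :
    ∃ a b : ℕ, topologicalKrullDim ↥(closure ({x} : Set X)) = ((a : ℕ∞) : WithBot ℕ∞) ∧
      ringKrullDim (X.presheaf.stalk x) = ((b : ℕ∞) : WithBot ℕ∞) ∧
      topologicalKrullDim X = (((a + b : ℕ) : ℕ∞) : WithBot ℕ∞) := by
  haveI := hdom x
  obtain ⟨g, hgx, hg⟩ := exists_generic x
  obtain ⟨C, hC, hgC⟩ := exists_mem_irreducibleComponents_subset_of_isIrreducible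
    (closure {g}) isIrreducible_singleton.closure
  have hCc := isClosed_of_mem_irreducibleComponents C hC
  have hgC' : g ∈ C := hgC (subset_closure rfl)
  have hset : {t : X | t ∈ C ∧ t ⤳ x} = {t : X | t ⤳ x} :=
    Set.ext fun t => ⟨fun h => h.2, fun h => ⟨(hg t h).mem_closed hCc hgC', h⟩⟩
  have h := hchain x C hCc hC.1 (hgx.mem_closed hCc hgC')
  rw [hset, topDim_generizations, hcomp C hC] at h
  haveI : Nonempty ↥(closure ({x} : Set X)) := ⟨⟨x, subset_closure rfl⟩⟩
  have h1 := TopDimLib.topDim_nonneg_of_nonempty (X := ↥(closure ({x} : Set X)))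
  have h2 := ringKrullDim_nonneg_of_nontrivial (R := X.presheaf.stalk x)
  obtain ⟨a', ha⟩ := WithBot.ne_bot_iff_exists.1 (ne_of_gt (lt_of_lt_of_le (WithBot.bot_lt_coe _) h1))
  obtain ⟨b', hb⟩ := WithBot.ne_bot_iff_exists.1 (ne_of_gt (lt_of_lt_of_le (WithBot.bot_lt_coe _) h2))
  rw [← ha, ← hb, ← WithBot.coe_add] at h
  have hlt : a' + b' < ⊤ := by
    rw [h] at hfin
    exact WithBot.coe_lt_coe.1 hfin
  obtain ⟨a, rfl⟩ := ENat.ne_top_iff_exists.1 (ne_of_lt (lt_of_le_of_lt le_self_add hlt))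
  obtain ⟨b, rfl⟩ := ENat.ne_top_iff_exists.1 (ne_of_lt (lt_of_le_of_lt le_add_self hlt))
  exact ⟨a, b, ha.symm, hb.symm, by rw [h]; rfl⟩

end Groth.Agent.Fibres16.RectDepth
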