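import Groth.Agent.Fibres16.RectDepth.Scheme
import Groth.Agent.S3449
import Groth.Agent.S0603
import Groth.Agent.CycLib.SchemeDim
import Groth.Agent.CycLib.FibreDeg

/-!
# Rectified depth over a regular Jacobson base

`exists_rect`: the dimension of point closures is given by `e` and the loci of
`depth + e` are open, for schemes locally of finite type over a regular Jacobson scheme with
equidimensional components.
-/

set_option autoImplicit false
set_option linter.style.haveILetI false

universe u

open CategoryTheory AlgebraicGeometry TopologicalSpace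

namespace Groth.Agent.Fibres16.RectDepth

theorem exists_rect {X S : Scheme.{u}} [IsLocallyNoetherian S] [JacobsonSpace S]
    (hreg : ∀ s : S, IsRegularLocalRing ↑(S.presheaf.stalk s))
    (h3 : ∀ S' ∈ irreducibleComponents (S : Type u), ∀ s ∈ S', IsClosed ({s} : Set S) →
      topologicalKrullDim (↥S' : Type u) = topologicalKrullDim ↥{t : S | t ∈ S' ∧ t ⤳ s})
    (g : X ⟶ S) [LocallyOfFiniteType g] (F : X.Modules) (hF : Coh.IsCoh F) :
    ∃ e : X → ℕ, (∀ x, topologicalKrullDim ↥(closure ({x} : Set X)) = ((e x : ℕ∞) : WithBot ℕ∞)) ∧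
      (∀ x, IsClosed ({x} : Set X) → e x = 0) ∧
      ∀ n : ℕ∞, IsOpen {x : X | n ≤ LocCoh.depth (X.presheaf.stalk x) (F.presheaf.stalk x) + (e x : ℕ∞)} := by
  haveI : IsLocallyNoetherian X := LocallyOfFiniteType.isLocallyNoetherian g
  haveI : JacobsonSpace X := LocallyOfFiniteType.jacobsonSpace g
  have hcat : ∀ s : S, CAlg.IsUniversallyCatenary (S.presheaf.stalk s) := fun s => by
    haveI := hreg s
    haveI : LocCoh.IsCohenMacaulayLocalRing (S.presheaf.stalk s) :=
      Groth.Agent.Depth.isCohenMacaulayLocalRing_of_isRegularLocalRing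
    haveI : LocCoh.IsCohenMacaulayRing (S.presheaf.stalk s) :=
      Groth.Agent.Depth.isCohenMacaulayRing_of_isCohenMacaulayLocalRing
    exact Groth.Agent.S0603.result _
  obtain ⟨δ, hd, h0⟩ := Groth.Agent.S3449.exists_dimFun hcat h3
  obtain ⟨δX, hδX, h0X⟩ := Groth.Agent.S3449.exists_compat g δ h0
  have hdX := CycLib.isDimFun_of_deltaCompat g hcat hd hδX
  refine ⟨fun x => (δX x).toNat, fun x => JacobsonDim.topDim_closure hdX h0X x,
    fun x hx => by simp [h0X x hx], fun n => isOpen_iff_forall_mem_open.2 fun x hx => ?_⟩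
  obtain ⟨V, hV, hxV, -⟩ := exists_isAffineOpen_mem_and_subset (U := (⊤ : S.Opens)) (x := g x) trivial
  obtain ⟨U, hU, hxU, eU⟩ := exists_isAffineOpen_mem_and_subset (U := g ⁻¹ᵁ V) (x := x) hxV
  haveI := regularRing_of_isAffineOpen hreg hV
  letI := (g.appLE V U eU).hom.toAlgebra
  haveI : Algebra.FiniteType Γ(S, V) Γ(X, U) := g.finiteType_appLE hV hU eU
  obtain ⟨N, π, hπ⟩ := Algebra.FiniteType.iff_quotient_mvPolynomial''.1
    (inferInstance : Algebra.FiniteType Γ(S, V) Γ(X, U))
  let B := MvPolynomial (Fin N) Γ(S, V)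
  haveI : IsRegularRing B := MvPolynomial.isRegularRing_of_isRegularRing _
  letI : Algebra B Γ(X, U) := π.toRingHom.toAlgebra
  let P := Spec (CommRingCat.of B)
  let q : P ⟶ S := Spec.map (CommRingCat.ofHom (algebraMap Γ(S, V) B)) ≫ hV.fromSpec
  haveI : LocallyOfFiniteType (Spec.map (CommRingCat.ofHom (algebraMap Γ(S, V) B))) :=
    (HasRingHomProperty.Spec_iff (P := @LocallyOfFiniteType)).2
      (RingHom.finiteType_algebraMap.2 inferInstance)
  haveI : LocallyOfFiniteType q := inferInstanceAs (LocallyOfFiniteType (_ ≫ hV.fromSpec))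
  haveI : JacobsonSpace P := LocallyOfFiniteType.jacobsonSpace q
  haveI : IsLocallyNoetherian P := LocallyOfFiniteType.isLocallyNoetherian q
  obtain ⟨δP, hδP, h0P⟩ := Groth.Agent.S3449.exists_compat q δ h0
  have hdP := CycLib.isDimFun_of_deltaCompat q hcat hd hδP
  have hdom : ∀ y : P, IsDomain (P.presheaf.stalk y) := fun y => by
    haveI : IsRegularLocalRing (Localization.AtPrime (PrimeSpectrum.asIdeal y)) :=
      IsRegularRing.isRegularLocalRing_localization _
    letI : Algebra B (P.presheaf.stalk y) := StructureSheaf.stalkAlgebra B y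
    haveI : IsLocalization.AtPrime (P.presheaf.stalk y) (PrimeSpectrum.asIdeal y) :=
      StructureSheaf.IsLocalization.to_stalk B y
    haveI : IsRegularLocalRing (P.presheaf.stalk y) := IsRegularLocalRing.of_ringEquiv
      (IsLocalization.algEquiv (PrimeSpectrum.asIdeal y).primeCompl
        (Localization.AtPrime (PrimeSpectrum.asIdeal y)) (P.presheaf.stalk y)).toRingEquiv
    exact RegLoc.isDomain _
  let i : Spec Γ(X, U) ⟶ P := Spec.map (CommRingCat.ofHom π.toRingHom)
  have hcomm : hU.fromSpec ≫ g = i ≫ q := by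
    rw [← IsAffineOpen.SpecMap_appLE_fromSpec g hV hU eU, ← Category.assoc, ← Spec.map_comp]
    congr 2
    ext a
    exact (π.commutes a).symm
  haveI : IsClosedImmersion i := IsClosedImmersion.spec_of_surjective _ hπ
  have hcompat : (fun z => δX (hU.fromSpec z)) = fun z => δP (i z) := by
    have h1 := CycLib.deltaCompat_comp (CycLib.deltaCompat_preimmersion hU.fromSpec δX) hδX
    rw [hcomm] at h1
    exact CycLib.deltaCompat_eq h1 (CycLib.deltaCompat_comp (CycLib.deltaCompat_preimmersion i δP) hδP)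
  have hh : ∀ p : PrimeSpectrum B, ∃ (W : Set (PrimeSpectrum B)) (c : ℕ), IsOpen W ∧ p ∈ W ∧
      ∀ r ∈ W, r.asIdeal.height + (((δP r).toNat : ℕ) : ℕ∞) = (c : ℕ∞) := by
    intro p
    obtain ⟨W, c, hW, hpW, hc⟩ := exists_height_add hdP (fun y => (CycLib.height_eq hdP h0P y).1) hdom p
    refine ⟨W, c, hW, hpW, fun r hr => ?_⟩
    have h := hc r hr
    rw [ringKrullDim_stalk_spec] at h
    exact WithBot.coe_inj.1 ((WithBot.coe_add _ _).trans h)
  have key := isOpen_chart F hF hU (B := B) hπ _ hh (fun y => (δX y).toNat)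
    (fun z => congrArg Int.toNat (congrFun hcompat z)) n
  exact ⟨_, fun y hy => hy.2, key, hxU, hx⟩

end Groth.Agent.Fibres16.RectDepth
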