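import Groth.Agent.Fibres16.RectDepth.Algebra
import Groth.Agent.Fibres16.JacobsonDim
import Groth.Agent.ZClosLib.DepthCrit
import Groth.Agent.QCoh.FiniteType
import Groth.Agent.RegLoc.Basic
import Groth.Prelude.Def_Coh

/-!
# Rectified depth on schemes

* `exists_height_add`: on a scheme with domain stalks and a dimension function `δ`, `dim O_y + δ y`
  is locally constant;
* `regularRing_of_isAffineOpen`;
* `isOpen_chart`: openness on a chart embedded in a regular affine scheme.
-/

set_option autoImplicit false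
set_option linter.style.haveILetI false

universe u

open CategoryTheory AlgebraicGeometry TopologicalSpace IsLocalRing
open Groth.Agent.AssSch.Stalk

namespace Groth.Agent.Fibres16.RectDepth

/-- A point below all generizations, when the stalk is a domain. -/
theorem exists_generic {X : Scheme.{u}} (x : X) [IsDomain (X.presheaf.stalk x)] :
    ∃ g : X, g ⤳ x ∧ ∀ t : X, t ⤳ x → g ⤳ t := by
  refine ⟨X.fromSpecStalk x ⟨⊥, Ideal.isPrime_bot⟩, ?_, fun t ht => ?_⟩
  · have h : X.fromSpecStalk x ⟨⊥, Ideal.isPrime_bot⟩ ∈ Set.range (X.fromSpecStalk x) := ⟨_, rfl⟩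
    rwa [Scheme.range_fromSpecStalk] at h
  · obtain ⟨P, rfl⟩ : t ∈ Set.range (X.fromSpecStalk x) := by rwa [Scheme.range_fromSpecStalk]
    exact ((PrimeSpectrum.le_iff_specializes _ _).1
      (show (⟨⊥, Ideal.isPrime_bot⟩ : PrimeSpectrum (X.presheaf.stalk x)) ≤ P from bot_le (a := P.asIdeal))).map
        (X.fromSpecStalk x).continuous

/-- `dim O_y + δ y` is locally constant. -/
theorem exists_height_add {X : Scheme.{u}} [IsLocallyNoetherian X] {δ : X → ℤ} (hd : Cyc.IsDimFun X δ)
    (hnn : ∀ y, 0 ≤ δ y) (hdom : ∀ y : X, IsDomain (X.presheaf.stalk y)) (p : X) :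
    ∃ (W : Set X) (c : ℕ), IsOpen W ∧ p ∈ W ∧
      ∀ y ∈ W, ringKrullDim (X.presheaf.stalk y) + (((δ y).toNat : ℕ∞) : WithBot ℕ∞) = ((c : ℕ∞) : WithBot ℕ∞) := by
  haveI := hdom p
  obtain ⟨g, hgp, hg⟩ := exists_generic p
  obtain ⟨U, G, hU, hpU, hG, hcov⟩ := JacobsonDim.exists_nhd (Y := (Set.univ : Set X)) isClosed_univ (x := p) trivial
  refine ⟨U, (δ g).toNat, hU, hpU, fun y hy => ?_⟩
  obtain ⟨g', hg', hg'y⟩ := hcov y ⟨hy, trivial⟩
  have hgy : g ⤳ y := (hg g' (hG g' hg').2).trans hg'y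
  haveI := hdom y
  obtain ⟨gy, hgyy, hgy'⟩ := exists_generic y
  have h1 : gy ⤳ g := hgy' g hgy
  have h2 : g ⤳ gy := hg gy (h1.trans hgp)
  have hle := CycLib.le_of_specializes hd hgy
  have := hnn y
  rw [ringKrullDim_stalk_eq_coheight, CycLib.coheight_eq hd (δ g - δ y).toNat y hgy
    (fun z hz => h2.trans (hgy' z hz)) (by omega), ← WithBot.coe_add]
  norm_cast
  omega

/-- Affine opens of a regular scheme. -/
theorem regularRing_of_isAffineOpen {S : Scheme.{u}} [IsLocallyNoetherian S]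
    (hreg : ∀ s : S, IsRegularLocalRing (S.presheaf.stalk s)) {V : S.Opens} (hV : IsAffineOpen V) :
    IsRegularRing Γ(S, V) := by
  haveI : IsNoetherianRing Γ(S, V) := IsLocallyNoetherian.component_noetherian ⟨V, hV⟩
  refine ⟨fun p _ => ?_⟩
  let s : V := ⟨hV.fromSpec ⟨p, inferInstance⟩, by
    have := Set.mem_range_self (f := hV.fromSpec) ⟨p, inferInstance⟩
    rwa [hV.range_fromSpec] at this⟩
  let := S.presheaf.algebra_section_stalk s
  have hloc : IsLocalization.AtPrime (S.presheaf.stalk (s : S)) p := by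
    exact hV.isLocalization_stalk' ⟨p, inferInstance⟩ s.2
  exact @IsRegularLocalRing.of_ringEquiv _ _ (hreg s) _ _
    (IsLocalization.algEquiv p.primeCompl (S.presheaf.stalk (s : S)) (Localization.AtPrime p)).toRingEquiv

/-- The dimension of the local ring of `Spec B` at `p` is the height. -/
theorem ringKrullDim_stalk_spec (B : Type u) [CommRing B] (p : Spec (CommRingCat.of B)) :
    ringKrullDim ((Spec (CommRingCat.of B)).presheaf.stalk p) = (PrimeSpectrum.asIdeal p).height := by
  letI : Algebra B ((Spec (CommRingCat.of B)).presheaf.stalk p) := StructureSheaf.stalkAlgebra B p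
  haveI : IsLocalization.AtPrime ((Spec (CommRingCat.of B)).presheaf.stalk p) (PrimeSpectrum.asIdeal p) :=
    StructureSheaf.IsLocalization.to_stalk B p
  exact IsLocalization.AtPrime.ringKrullDim_eq_height _ _

variable {X : Scheme.{u}} [IsLocallyNoetherian X] (F : X.Modules)

/-- Stalk depth on an affine chart presented as a quotient. -/
theorem depth_stalk_eq (hF : Coh.IsCoh F) {U : X.Opens} (hU : IsAffineOpen U) {B : Type u} [CommRing B]
    [Algebra B Γ(X, U)] (hs : Function.Surjective (algebraMap B Γ(X, U))) (z : PrimeSpectrum Γ(X, U)) :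
    letI : Module B Γ(F, U) := Module.compHom _ (algebraMap B Γ(X, U))
    LocCoh.depth (Localization.AtPrime (z.asIdeal.comap (algebraMap B Γ(X, U))))
        (LocalizedModule (z.asIdeal.comap (algebraMap B Γ(X, U))).primeCompl Γ(F, U)) =
      LocCoh.depth (X.presheaf.stalk (hU.fromSpec z)) (F.presheaf.stalk (hU.fromSpec z)) := by
  letI : Module B Γ(F, U) := Module.compHom _ (algebraMap B Γ(X, U))
  haveI : IsScalarTower B Γ(X, U) Γ(F, U) := IsScalarTower.of_algebraMap_smul fun _ _ => rfl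
  haveI : F.IsQuasicoherent := hF.1
  haveI : SheafOfModules.IsFiniteType.{u} F := hF.2
  haveI : Module.Finite Γ(X, U) Γ(F, U) := QCoh.finite_sections_of_isFiniteType F hU
  rw [LocCoh.AdjDepthRestrict.depth_localization_of_surjective Γ(F, U) hs z.asIdeal]
  have hx : hU.fromSpec z ∈ U := hU.range_fromSpec.subset ⟨z, rfl⟩
  have hz : primeOf hU (hU.fromSpec z) hx = z.asIdeal := congrArg PrimeSpectrum.asIdeal
    (hU.fromSpec.isOpenEmbedding.injective (hU.fromSpec_primeIdealOf ⟨_, hx⟩))
  letI : Algebra Γ(X, U) (X.presheaf.stalk (hU.fromSpec z)) := (X.presheaf.germ U _ hx).hom.toAlgebra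
  letI : Module Γ(X, U) (F.presheaf.stalk (hU.fromSpec z)) := Module.compHom _ (X.presheaf.germ U _ hx).hom
  haveI : IsScalarTower Γ(X, U) (X.presheaf.stalk (hU.fromSpec z)) (F.presheaf.stalk (hU.fromSpec z)) :=
    IsScalarTower.of_algebraMap_smul fun _ _ => rfl
  haveI : IsLocalization.AtPrime (X.presheaf.stalk (hU.fromSpec z)) z.asIdeal := by
    have h : IsLocalization.AtPrime (X.presheaf.stalk (hU.fromSpec z)) (primeOf hU (hU.fromSpec z) hx) :=
      hU.isLocalization_stalk ⟨_, hx⟩
    simp only [hz] at h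
    exact h
  haveI : IsLocalizedModule z.asIdeal.primeCompl (germLinear F (hU.fromSpec z) hx) := by
    have h := isLocalizedModule_germLinear F hU (hU.fromSpec z) hx
    simp only [hz] at h
    exact h
  haveI : IsNoetherianRing Γ(X, U) := IsLocallyNoetherian.component_noetherian ⟨U, hU⟩
  exact ZClosLib.DepthCrit.depth_eq_of_isBaseChange z.asIdeal
    (IsLocalizedModule.isBaseChange z.asIdeal.primeCompl (X.presheaf.stalk (hU.fromSpec z))
      (germLinear F (hU.fromSpec z) hx))

/-- Openness of the rectified depth loci on an affine chart inside a regular affine scheme. -/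
theorem isOpen_chart (hF : Coh.IsCoh F) {U : X.Opens} (hU : IsAffineOpen U) {B : Type u} [CommRing B]
    [IsRegularRing B] [Algebra B Γ(X, U)] (hs : Function.Surjective (algebraMap B Γ(X, U)))
    (d : PrimeSpectrum B → ℕ)
    (hd : ∀ p : PrimeSpectrum B, ∃ (W : Set (PrimeSpectrum B)) (c : ℕ), IsOpen W ∧ p ∈ W ∧
      ∀ q ∈ W, q.asIdeal.height + (d q : ℕ∞) = (c : ℕ∞))
    (e : X → ℕ) (he : ∀ z : PrimeSpectrum Γ(X, U),
      e (hU.fromSpec z) = d (PrimeSpectrum.comap (algebraMap B Γ(X, U)) z)) (n : ℕ∞) :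
    IsOpen {x : X | x ∈ U ∧ n ≤ LocCoh.depth (X.presheaf.stalk x) (F.presheaf.stalk x) + (e x : ℕ∞)} := by
  letI : Module B Γ(F, U) := Module.compHom _ (algebraMap B Γ(X, U))
  haveI : IsScalarTower B Γ(X, U) Γ(F, U) := IsScalarTower.of_algebraMap_smul fun _ _ => rfl
  haveI : F.IsQuasicoherent := hF.1
  haveI : SheafOfModules.IsFiniteType.{u} F := hF.2
  haveI : Module.Finite Γ(X, U) Γ(F, U) := QCoh.finite_sections_of_isFiniteType F hU
  haveI : Module.Finite B Γ(X, U) := Module.Finite.of_surjective (Algebra.linearMap B Γ(X, U)) hs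
  haveI : Module.Finite B Γ(F, U) := Module.Finite.trans Γ(X, U) Γ(F, U)
  have h := (isOpen_rect Γ(F, U) d hd n).preimage (PrimeSpectrum.continuous_comap (algebraMap B Γ(X, U)))
  convert hU.fromSpec.isOpenEmbedding.isOpenMap _ h using 1
  ext x
  constructor
  · rintro ⟨hx, hn⟩
    obtain ⟨z, rfl⟩ : x ∈ Set.range hU.fromSpec := hU.range_fromSpec.symm ▸ hx
    refine ⟨z, ?_, rfl⟩
    show n ≤ _ + _
    rw [← he z]
    exact (congrArg (fun D => n ≤ D + _) (depth_stalk_eq F hF hU hs z)).mpr hn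
  · rintro ⟨z, hz, rfl⟩
    refine ⟨hU.range_fromSpec.subset ⟨z, rfl⟩, ?_⟩
    rw [he z]
    exact (congrArg (fun D => n ≤ D + _) (depth_stalk_eq F hF hU hs z)).mp hz

end Groth.Agent.Fibres16.RectDepth
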